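import Groth.Agent.S9777
import Groth.Agent.GenBCLib.Betti
import Groth.Agent.BCLib.Local
import Groth.Agent.BCLib.SteinNbhd
import Groth.Agent.BCLib.SteinFlat
import Groth.Agent.CurveLib.Euler
import Groth.Agent.CurveLib.Inv
import Groth.Agent.EulerIneqLib.Basic
import Groth.Agent.TildePerf.RelPerf
import Groth.Agent.PullbackMod.LocFree
import Groth.Agent.DCohLib.ProjMap
import Groth.Agent.InvDescLib.RelPic
import Groth.Prelude.Def_FGA
import Groth.Prelude.Def_AbDual

/-!
# The degree function on the relative Picard scheme of a family of curves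
-/

set_option autoImplicit false
set_option backward.isDefEq.respectTransparency false
set_option backward.isDefEq.respectTransparency.types false
set_option linter.style.haveILetI false
set_option maxHeartbeats 1000000

universe u

open CategoryTheory CategoryTheory.Limits AlgebraicGeometry

noncomputable section

namespace Groth.Agent.PicDegLib

variable {X Y : Scheme.{u}}

/-- `h⁰ - h¹` of the restriction to the fibre at `y`. -/
def chi (g : X ⟶ Y) (L : X.Modules) (y : Y) : ℤ :=
  (CohIII.fiberRank g L 0 y : ℤ) - CohIII.fiberRank g L 1 y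

/-- The degree on the fibre at `y`. -/
def deg (g : X ⟶ Y) (L : X.Modules) (y : Y) : ℤ := chi g L y - chi g (Coh.structureModule X) y

theorem isQCoh_invertible {L : X.Modules} (hL : PicF.IsInvertible L) : Coh.IsQCoh L :=
  (PullbackMod.isQCoh_and_isFP_of_isFinLocFree L (CurveLib.isFinLocFree_of_isInvertible hL)).1

theorem deg_congr (g : X ⟶ Y) {L M : X.Modules} (e : L ≅ M) (y : Y) : deg g L y = deg g M y := by
  simp only [deg, chi, BCLib.fiberRank_congr g e]

theorem deg_baseChange {X' Y' : Scheme.{u}} {g : X ⟶ Y} {g' : X' ⟶ Y'} {b' : X' ⟶ X} {b : Y' ⟶ Y}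
    (h : IsPullback b' g' g b) [IsProper g] (L : X.Modules) [Coh.IsQCoh L] (y : Y') :
    deg g' ((Scheme.Modules.pullback b').obj L) y = deg g L (b y) := by
  haveI : Coh.IsQCoh (Coh.structureModule X) := isQCoh_invertible ParaFLib.isInvertible_structureModule
  simp only [deg, chi, BCLib.fiberRank_congr g' (DCohLib.pullStructureIso b').symm,
    BCLib.fiberRank_baseChange h]

theorem isLocallyConstant_chi (g : X ⟶ Y) [IsProper g] [Flat g] [LocallyOfFinitePresentation g]
    (hdim : ∀ y : Y, topologicalKrullDim ↥(g.fiber y) ≤ (1 : ℕ)) {L : X.Modules} (hL : PicF.IsInvertible L) :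
    IsLocallyConstant (chi g L) := by
  have hlf := CurveLib.isFinLocFree_of_isInvertible hL
  haveI := isQCoh_invertible hL
  have h := GenBCLib.isLocallyConstant_euler (PullbackMod.isQCoh_and_isFP_of_isFinLocFree L hlf).2
    (TildePerf.isFlatOver_of_isFinLocFree g hlf)
  convert h using 1
  funext y
  letI : (g.fiber y).Over (Spec (CommRingCat.of (Y.residueField y))) := ⟨g.fiberToSpecResidueField y⟩
  haveI : IsProper ((g.fiber y) ↘ Spec (CommRingCat.of (Y.residueField y))) :=
    inferInstanceAs (IsProper (pullback.snd g (Y.fromSpecResidueField y)))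
  haveI := EulerIneqLib.isNoetherian_proper (X := g.fiber y) (Y.residueField y)
  have h2 : ∀ i, 2 ≤ i → PerfAux.betti g L y i = 0 := fun i hi => by
    haveI := CurveLib.subsingleton_HH_of_dim ((Scheme.Modules.pullback (g.fiberι y)).obj L) (hdim y)
      (p := i) (by omega)
    exact Module.finrank_zero_of_subsingleton
  change _ = finsum fun i : ℕ => (-1 : ℤ) ^ i * (PerfAux.betti g L y i : ℤ)
  rw [finsum_eq_sum_of_support_subset _ (s := Finset.range 2) (fun i hi => by
    simp only [Finset.coe_range, Set.mem_Iio]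
    by_contra h3
    exact hi (by simp [h2 i (not_lt.1 h3)]))]
  simp only [Finset.sum_range_succ, Finset.sum_range_zero, pow_zero, pow_one, zero_add, one_mul, neg_one_mul]
  rfl

theorem isLocallyConstant_deg (g : X ⟶ Y) [IsProper g] [Flat g] [LocallyOfFinitePresentation g]
    (hdim : ∀ y : Y, topologicalKrullDim ↥(g.fiber y) ≤ (1 : ℕ)) {L : X.Modules} (hL : PicF.IsInvertible L) :
    IsLocallyConstant (deg g L) :=
  (isLocallyConstant_chi g hdim hL).comp₂ (isLocallyConstant_chi g hdim ParaFLib.isInvertible_structureModule)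
    (fun a b => a - b)

variable {C S : Scheme.{u}} {f : C ⟶ S} [IsProper f] {P : Over S}
  {φ : ∀ T : Over S, PicF.Cl (PicF.XT f T) → (T ⟶ P)}

theorem deg_XTmap {T T' : Over S} (g : T' ⟶ T) {L : (PicF.XT f T).Modules} (hL : PicF.IsInvertible L) (t : T'.left) :
    deg (PicF.XTproj f T') ((Scheme.Modules.pullback (PicF.XTmap f g)).obj L) t =
      deg (PicF.XTproj f T) L (g.left t) := by
  haveI : IsProper (PicF.XTproj f T) := MorphismProperty.pullback_snd _ _ inferInstance
  haveI := isQCoh_invertible hL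
  exact deg_baseChange (InvDescLib.isPullback_map g) L t

theorem deg_eq_of_phi_eq (hP : AbDual.IsRelPicK Scheme.fppfPrecoverage f P φ) {T T' : Over S}
    {L : (PicF.XT f T).Modules} (hL : PicF.IsInvertible L) {L' : (PicF.XT f T').Modules}
    (hL' : PicF.IsInvertible L') {t : T.left} {t' : T'.left}
    (h : (φ T (PicF.cl L)).left t = (φ T' (PicF.cl L')).left t') :
    deg (PicF.XTproj f T) L t = deg (PicF.XTproj f T') L' t' := by
  let a := φ T (PicF.cl L)
  let a' := φ T' (PicF.cl L')
  obtain ⟨w, hw₁, hw₂⟩ := Scheme.Pullback.exists_preimage_pullback (f := a.left) (g := a'.left) t t' h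
  let V : Over S := Over.mk (pullback.fst a.left a'.left ≫ T.hom)
  let g : V ⟶ T := Over.homMk (pullback.fst a.left a'.left) rfl
  let g' : V ⟶ T' := Over.homMk (pullback.snd a.left a'.left) (by
    change _ = pullback.fst a.left a'.left ≫ T.hom
    rw [← Over.w a, ← Over.w a', ← Category.assoc, ← Category.assoc, pullback.condition])
  have hL1 : PicF.IsInvertibleCl (PicF.cl L) := ⟨L, rfl, hL⟩
  have hL1' : PicF.IsInvertibleCl (PicF.cl L') := ⟨L', rfl, hL'⟩
  have hgg : φ V (PicF.pullCl (PicF.XTmap f g) (PicF.cl L)) = φ V (PicF.pullCl (PicF.XTmap f g') (PicF.cl L')) := by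
    rw [hP.natural _ _ g _ hL1, hP.natural _ _ g' _ hL1']
    exact Over.OverMorphism.ext pullback.condition
  have hM := AmpleLib.isInvertible_pullback (PicF.XTmap f g) hL
  have hM' := AmpleLib.isInvertible_pullback (PicF.XTmap f g') hL'
  obtain ⟨R, hR, hRe⟩ := hP.locallyInjective V (PicF.cl _) (PicF.cl _) ⟨_, rfl, hM⟩ ⟨_, rfl, hM'⟩ hgg
  obtain ⟨U, u, hu, v, hv⟩ : ∃ (U : Scheme.{u}) (u : U ⟶ V.left), R u ∧ ∃ v, u v = w := by
    obtain ⟨_, _, ⟨hg⟩, hw⟩ := hR.1 w
    exact ⟨_, _, hg, hw⟩
  obtain ⟨e⟩ := AbDualLib.nonempty_iso_of_cl_eq (hRe u hu)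
  have h1 := deg_XTmap (AbDual.ovrHom V u) hM v
  have h2 := deg_XTmap (AbDual.ovrHom V u) hM' v
  rw [deg_congr _ e, h2, deg_XTmap g hL, deg_XTmap g' hL'] at h1
  have e1 : (AbDual.ovrHom V u).left v = w := hv
  rw [e1] at h1
  change deg (PicF.XTproj f T') L' ((pullback.snd a.left a'.left) w) =
    deg (PicF.XTproj f T) L ((pullback.fst a.left a'.left) w) at h1
  rw [hw₁, hw₂] at h1
  exact h1.symm

theorem exists_deg [Flat f] [LocallyOfFinitePresentation f] (hdim : ∀ s : S, topologicalKrullDim ↥(f.fiber s) ≤ (1 : ℕ))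
    (hP : AbDual.IsRelPicK Scheme.fppfPrecoverage f P φ) :
    ∃ d : ↥P.left → ℤ, IsLocallyConstant d ∧ ∀ (T : Over S) (L : (PicF.XT f T).Modules), PicF.IsInvertible L →
      ∀ t : T.left, d ((φ T (PicF.cl L)).left t) = deg (PicF.XTproj f T) L t := by
  obtain ⟨R, hR, hRs⟩ := hP.locallySurjective P (𝟙 P)
  have hpt : ∀ p : P.left, ∃ (U : Scheme.{u}) (u : U ⟶ P.left) (L : (PicF.XT f (AbDual.ovr P u)).Modules) (q : U),
      PicF.IsInvertible L ∧ R u ∧ u q = p ∧ (φ (AbDual.ovr P u) (PicF.cl L)).left = u := fun p => by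
    obtain ⟨_, _, ⟨hu⟩, q, hq⟩ := hR.1 p
    obtain ⟨c, ⟨L, rfl, hL⟩, hc⟩ := hRs _ hu
    exact ⟨_, _, L, q, hL, hu, hq, by rw [hc, Category.comp_id]; rfl⟩
  choose U u M q hM hu hq hφ using hpt
  let d : ↥P.left → ℤ := fun p => deg (PicF.XTproj f (AbDual.ovr P (u p))) (M p) (q p)
  have hd : ∀ (T : Over S) (L : (PicF.XT f T).Modules), PicF.IsInvertible L →
      ∀ t : T.left, d ((φ T (PicF.cl L)).left t) = deg (PicF.XTproj f T) L t := fun T L hL t => by
    refine deg_eq_of_phi_eq hP (hM _) hL ?_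
    rw [hφ]
    exact hq _
  refine ⟨d, (IsLocallyConstant.iff_exists_open d).2 fun p => ?_, hd⟩
  let T := AbDual.ovr P (u p)
  let π := PicF.XTproj f T
  haveI : IsProper π := MorphismProperty.pullback_snd _ _ inferInstance
  haveI : Flat π := MorphismProperty.pullback_snd _ _ inferInstance
  haveI : LocallyOfFinitePresentation π := MorphismProperty.pullback_snd _ _ inferInstance
  have hloc := isLocallyConstant_deg π (fun t => (Groth.Agent.S9777.result f _ π (pullback.fst f T.hom)
    (IsPullback.of_hasPullback f T.hom) t).trans_le (hdim _)) (hM p)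
  obtain ⟨W, hW, hqW, hWc⟩ := (IsLocallyConstant.iff_exists_open _).1 hloc (q p)
  haveI : Flat (u p) := (hR.2 (hu p)).1
  haveI : LocallyOfFinitePresentation (u p) := (hR.2 (hu p)).2
  refine ⟨u p '' W, (u p).isOpenMap W hW, ⟨q p, hqW, hq p⟩, ?_⟩
  rintro _ ⟨z, hz, rfl⟩
  have h := hd T (M p) (hM p) z
  rw [hφ] at h
  exact h.trans (hWc z hz)

end Groth.Agent.PicDegLib
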